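import Groth.Agent.StackCount.K815.BGone
import Groth.Prelude.Def_NonAbH2

/-!
# The mass formula for `H¹(k, G)`, `G` finite etale over a finite field `k` (S14277)
-/

set_option autoImplicit false
set_option linter.unusedSectionVars false
set_option linter.style.haveILetI false
set_option linter.unusedVariables false
universe u
open CategoryTheory Limits MonoidalCategory CartesianMonoidalCategory MonObj GrpObj AlgebraicGeometry

namespace K992.H1Count

open K815.Tors K815.Obj K815.PtEq K815.Coc K815.Ess K815.Lc K815.Dict K815.DictMass NonAbH1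

theorem etale_le_fppf : Scheme.etalePrecoverage.{u} ≤ Scheme.fppfPrecoverage.{u} :=
  Scheme.precoverage_mono fun _ _ f hf => by
    have : Etale f := hf
    exact ⟨inferInstance, inferInstance⟩

section basics

variable {k : Type u} [Field k]

theorem pt_hom : (SGA7.pt (K := k) k).hom = 𝟙 _ := by
  change Spec.map (CommRingCat.ofHom (algebraMap k k)) = _
  rw [Algebra.algebraMap_self]
  exact Spec.map_id _

theorem pt_ext {Z : Over (Spec (CommRingCat.of k))} (f g : Z ⟶ SGA7.pt (K := k) k) : f = g := by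
  apply Over.OverMorphism.ext
  have hf := Over.w f
  have hg := Over.w g
  rw [pt_hom] at hf hg
  rw [Category.comp_id] at hf hg
  rw [hf, hg]

/-- The map to the point. -/
noncomputable def toPt (Z : Over (Spec (CommRingCat.of k))) : Z ⟶ SGA7.pt (K := k) k :=
  Over.homMk Z.hom (by rw [pt_hom]; exact Category.comp_id _)

variable {G : Over (Spec (CommRingCat.of k))} [GrpObj G]

theorem isPullback_of_pseudo {X : Over (Spec (CommRingCat.of k))} (a : AlgGrp.Action G X)
    (h : IsPseudoTorsorSch a) : IsPullback a.act (snd G X) (toPt X) (toPt X) := by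
  have hi : IsIso (lift a.act (snd G X)) := h
  have h1 : inv (lift a.act (snd G X)) ≫ a.act = fst X X := by
    rw [IsIso.inv_comp_eq, lift_fst]
  have h2 : inv (lift a.act (snd G X)) ≫ snd G X = snd X X := by
    rw [IsIso.inv_comp_eq, lift_snd]
  refine ⟨⟨pt_ext _ _⟩, ⟨PullbackCone.IsLimit.mk _ (fun s => lift s.fst s.snd ≫ inv (lift a.act (snd G X))) ?_ ?_ ?_⟩⟩
  · intro s
    rw [Category.assoc, h1, lift_fst]
  · intro s
    rw [Category.assoc, h2, lift_snd]
  · intro s m hm1 hm2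
    rw [← Category.comp_id m, ← IsIso.hom_inv_id (lift a.act (snd G X)), ← Category.assoc, comp_lift, hm1, hm2]

theorem pseudo_of_isPullback {X : Over (Spec (CommRingCat.of k))} (a : AlgGrp.Action G X)
    {π : X ⟶ SGA7.pt (K := k) k} (h : IsPullback a.act (snd G X) π π) : IsPseudoTorsorSch a := by
  refine ⟨⟨h.lift (fst X X) (snd X X) (pt_ext _ _), ?_, ?_⟩⟩
  · apply h.hom_ext
    · rw [Category.assoc, h.lift_fst, lift_fst, Category.id_comp]
    · rw [Category.assoc, h.lift_snd, lift_snd, Category.id_comp]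
  · rw [comp_lift, h.lift_fst, h.lift_snd, lift_fst_snd]

/-- A torsor as an object of the classifying stack over the point. -/
noncomputable def toT {K : Precoverage Scheme.{u}} (P : TorsorSch G K) :
    TObj K G (AlgSt.trivAction G) (SGA7.pt (K := k) k) where
  P := P.X
  act := P.act
  π := toPt P.X
  cart := isPullback_of_pseudo P.act P.isTorsor.1
  loc := P.isTorsor.2
  φ := toUnit P.X
  eqv := toUnit_unique _ _

/-- An etale torsor object over the point as an fppf torsor. -/
noncomputable def ofT (A : TObj Scheme.etalePrecoverage G (AlgSt.trivAction G) (SGA7.pt (K := k) k)) :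
    TorsorSch G Scheme.fppfPrecoverage where
  X := A.P
  act := A.act
  isTorsor := ⟨pseudo_of_isPullback A.act A.cart, by
    obtain ⟨R, hR, hR'⟩ := A.loc
    refine ⟨R, etale_le_fppf _ hR, fun S' f hf => ?_⟩
    obtain ⟨s, hs⟩ := hR' f hf
    refine ⟨s, ?_⟩
    have h1 := Over.w A.π
    rw [pt_hom] at h1
    rw [Category.comp_id] at h1
    rw [← h1]
    exact hs⟩

theorem equivIso_ext {X X' : Over (Spec (CommRingCat.of k))} {a : AlgGrp.Action G X} {a' : AlgGrp.Action G X'}
    {e e' : EquivIso a a'} (h : e.iso.hom = e'.iso.hom) : e = e' := by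
  cases e
  cases e'
  congr 1
  exact Iso.ext h

/-- The groupoid of torsors. -/
@[reducible] noncomputable def cat (G : Over (Spec (CommRingCat.of k))) [GrpObj G] (K : Precoverage Scheme.{u}) :
    Category.{u} (TorsorSch G K) where
  Hom P Q := EquivIso P.act Q.act
  id P := ⟨Iso.refl _, by simp⟩
  comp f g := ⟨f.iso ≪≫ g.iso, by
    rw [Iso.trans_hom, ← Category.assoc, f.comm, Category.assoc, g.comm, MonoidalCategory.whiskerLeft_comp,
      Category.assoc]⟩
  id_comp f := equivIso_ext (Category.id_comp _)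
  comp_id f := equivIso_ext (Category.comp_id _)
  assoc f g h := equivIso_ext (Category.assoc _ _ _)

end basics

section point

variable {k k' kb : Type u} [Field k] [Field k'] [Field kb] [Algebra k k'] [Algebra k kb] [Algebra k' kb]
  [IsScalarTower k k' kb] {G : Over (Spec (CommRingCat.of k))} [GrpObj G]
  {X : Over (Spec (CommRingCat.of k))} {aX : AlgGrp.Action G X}

/-- A torsor locally trivial for the fppf topology has a geometric point, with open stabiliser. -/
theorem exists_point [IsAlgClosed kb] [Algebra.IsAlgebraic k' kb]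
    (A : TObj Scheme.fppfPrecoverage G aX (SGA7.pt (K := k) k')) :
    ∃ t : SGA7.pt (K := k) kb ⟶ A.P, t ≫ A.π = q k k' kb ∧ IsOpen {σ : kb ≃ₐ[k'] kb | s (k := k) σ ≫ t = t} := by
  obtain ⟨R, hR, hR'⟩ := A.loc
  obtain ⟨Y, f, h1, h2, h3⟩ := K815.Cov.mem_cov hR ((q k k' kb).left (IsLocalRing.closedPoint kb))
  have : LocallyOfFinitePresentation f := h2.2
  obtain ⟨y, hy⟩ := K815.Cov.exists_lift_geom (K := kb) f (q k k' kb).left h3
  obtain ⟨t, ht'⟩ : ∃ t : Y ⟶ A.P.left, t ≫ A.π.left = f := hR' f h1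
  have h4 : (y ≫ t) ≫ A.π.left = (q k k' kb).left := by rw [Category.assoc, ht', hy]
  have h5 : (y ≫ t) ≫ A.P.hom = (SGA7.pt (K := k) kb).hom := by
    rw [← Over.w A.π, ← Category.assoc, h4, Over.w]
  refine ⟨Over.homMk (y ≫ t) h5, Over.OverMorphism.ext h4, ?_⟩
  let Yo : Over (Spec (CommRingCat.of k')) := Over.mk (f : Y ⟶ Spec (CommRingCat.of k'))
  have : LocallyOfFiniteType Yo.hom := inferInstanceAs (LocallyOfFiniteType f)
  let yo : SGA7.Pts kb Yo := Over.homMk (show Spec (CommRingCat.of kb) ⟶ Y from y) hy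
  have h6 := K815.Rat.isOpen_stab (k := k') (K := kb) yo
  have h7 : ∀ σ : kb ≃ₐ[k'] kb, σ • yo = yo → s (k := k) σ ≫ (Over.homMk (y ≫ t) h5 : SGA7.pt (K := k) kb ⟶ A.P) =
      Over.homMk (y ≫ t) h5 := by
    intro σ hσ
    apply Over.OverMorphism.ext
    have h8 : Spec.map (CommRingCat.ofHom (σ : kb →+* kb)) ≫ (show Spec (CommRingCat.of kb) ⟶ Y from y) = y :=
      congrArg CommaMorphism.left hσ
    change Spec.map (CommRingCat.ofHom (σ : kb →+* kb)) ≫ (show Spec (CommRingCat.of kb) ⟶ Y from y) ≫ t = _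
    rw [← Category.assoc, h8]
    rfl
  -- the stabiliser is a subgroup containing an open subgroup
  let V : Subgroup (kb ≃ₐ[k'] kb) :=
    { carrier := {σ | s (k := k) σ ≫ (Over.homMk (y ≫ t) h5 : SGA7.pt (K := k) kb ⟶ A.P) = Over.homMk (y ≫ t) h5}
      one_mem' := by
        change s (k := k) (1 : kb ≃ₐ[k'] kb) ≫ _ = _
        rw [s_one, Category.id_comp]
      mul_mem' := by
        intro σ τ hσ hτ
        change s (k := k) (σ * τ) ≫ _ = _
        rw [s_mul, Category.assoc, Set.mem_ofPred.mp hτ, Set.mem_ofPred.mp hσ]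
      inv_mem' := by
        intro σ hσ
        change s (k := k) σ⁻¹ ≫ _ = _
        have hσ' := Set.mem_ofPred.mp hσ
        conv_lhs => rw [← hσ']
        rw [← Category.assoc, ← s_mul, inv_mul_cancel, s_one, Category.id_comp] }
  have h8 : (MulAction.stabilizer (kb ≃ₐ[k'] kb) yo : Set (kb ≃ₐ[k'] kb)) = {σ | σ • yo = yo} := rfl
  rw [← h8] at h6
  exact Subgroup.isOpen_mono (H₁ := MulAction.stabilizer (kb ≃ₐ[k'] kb) yo) (H₂ := V) (fun σ hσ => h7 σ hσ) h6

end point

section dict

variable {k kb : Type u} [Field k] [Finite k] [Field kb] [Algebra k kb] [IsAlgClosed kb] [Algebra.IsAlgebraic k kb]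
  {G : Over (Spec (CommRingCat.of k))} [GrpObj G]

/-- Equivariant isomorphisms are the morphisms of the fibre category. -/
theorem nonempty_equiv (P Q : TorsorSch G Scheme.fppfPrecoverage) (t : SGA7.pt (K := k) kb ⟶ (toT P).P)
    (ht : t ≫ (toT P).π = q k k kb) (t' : SGA7.pt (K := k) kb ⟶ (toT Q).P) (ht' : t' ≫ (toT Q).π = q k k kb) :
    Nonempty (EquivIso P.act Q.act ≃ ((toT P).toFiber ⟶ (toT Q).toFiber)) := by
  have h1 : ∀ e : EquivIso P.act Q.act, IsHom (toT P) (toT Q) e.iso.hom := fun e =>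
    ⟨(eqv_iff P.act Q.act e.iso.hom).mp e.comm, pt_ext _ _, toUnit_unique _ _⟩
  have h2 : ∀ e : EquivIso P.act Q.act, ∃ F : (toT P).toFiber ⟶ (toT Q).toFiber, top F = e.iso.hom := by
    intro e
    have : IsIso (C := Over (Spec (CommRingCat.of k))) (X := (toT P).P) (Y := (toT Q).P) e.iso.hom := e.iso.isIso_hom
    exact exists_fiber_hom (h1 e)
  choose F hF using h2
  refine ⟨Equiv.ofBijective F ⟨?_, ?_⟩⟩
  · intro e e' h
    apply equivIso_ext
    exact (hF e).symm.trans ((congrArg top h).trans (hF e'))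
  · intro f
    have h3 : IsIso (top f) := (isHom_top f).isIso (q k k kb) t ht
    refine ⟨⟨@asIso _ _ _ _ (top f) h3, (eqv_iff P.act Q.act (top f)).mpr (isHom_top f).eqv⟩, ?_⟩
    apply fiber_hom_ext
    exact hF _

theorem exists_dict [LocallyOfFiniteType G.hom] [IsAffineHom G.hom] {π' : kb ≃ₐ[k] kb}
    (hπ' : ∀ x, π' x = x ^ Nat.card k) :
    letI := mulAction (AlgSt.trivAction G) (SGA7.pt (K := k) kb)
    letI := cat G Scheme.fppfPrecoverage
    Nonempty (K815.Mass.Dict (Ω := SGA7.pt (K := k) kb ⟶ 𝟙_ (Over (Spec (CommRingCat.of k))))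
      (TorsorSch G Scheme.fppfPrecoverage) (frH G π') (fun x => s π' ≫ x)) := by
  letI := mulAction (AlgSt.trivAction G) (SGA7.pt (K := k) kb)
  letI := cat G Scheme.fppfPrecoverage
  have hcl : IsAlgClosure k kb := ⟨inferInstance, inferInstance⟩
  have hnor : Normal k kb := IsAlgClosure.normal k kb
  have hlf : LocallyOfFiniteType (𝟙_ (Over (Spec (CommRingCat.of k)))).hom :=
    inferInstanceAs (LocallyOfFiniteType (𝟙 (Spec (CommRingCat.of k))))
  have h0 : ∀ P : TorsorSch G Scheme.fppfPrecoverage, ∃ (t : SGA7.pt (K := k) kb ⟶ (toT P).P),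
      t ≫ (toT P).π = q k k kb ∧ IsOpen {σ : kb ≃ₐ[k] kb | s (k := k) σ ≫ t = t} := fun P => exists_point (toT P)
  choose t ht hop using h0
  have hhom : ∀ (P Q : TorsorSch G Scheme.fppfPrecoverage), Nonempty ((P ⟶ Q) ≃ {h : SGA7.Pts kb G //
        coc (toT P) (t P) (ht P) π' * (s π' ≫ h) = h * coc (toT Q) (t Q) (ht Q) π' ∧
          ac (AlgSt.trivAction G) h (toUnit _) = (toUnit _)}) := by
    intro P Q
    obtain ⟨e0⟩ := nonempty_equiv P Q (t P) (ht P) (t Q) (ht Q)
    obtain ⟨e⟩ := exists_homEquiv (toT P) (toT Q) (t P) (ht P) (t Q) (ht Q)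
    refine ⟨e0.trans (e.trans (Equiv.subtypeEquivRight fun h => ?_))⟩
    rw [cond_iff hπ' (toT P) (toT Q) (t P) (ht P) (t Q) (ht Q) (hop P) (hop Q)]
    exact and_congr_right fun _ => iff_of_true (toUnit_unique _ _) (toUnit_unique _ _)
  refine ⟨{ pr := fun P => (coc (toT P) (t P) (ht P) π', toUnit _)
            fix := fun P => toUnit_unique _ _
            surj := ?_
            hom := hhom
            iso := ?_ }⟩
  · intro g x hx
    obtain ⟨A, t', ht', h1, h2⟩ := exists_obj (aX := AlgSt.trivAction G) hπ' g x (toUnit_unique _ _)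
    have ht'' : t' ≫ (toT (ofT A)).π = q k k kb := pt_ext _ _
    have h3 : coc (toT (ofT A)) t' ht'' π' = g := by
      rw [← h1]
      exact (coc_unique (toT (ofT A)) t' ht'' (coc_spec A t' ht' π')).symm
    obtain ⟨e⟩ := exists_homEquiv (toT (ofT A)) (toT (ofT A)) t' ht'' (t (ofT A)) (ht (ofT A))
    obtain ⟨h, h4, h5⟩ := e (𝟙 _)
    refine ⟨ofT A, h, ?_, toUnit_unique _ _⟩
    rw [← h3]
    exact h4 π'
  · intro P Q f
    refine ⟨⟨⟨f.iso.symm, ?_⟩, equivIso_ext f.iso.hom_inv_id, equivIso_ext f.iso.inv_hom_id⟩⟩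
    rw [Iso.symm_hom, ← cancel_mono f.iso.hom, Category.assoc, Category.assoc, Iso.inv_hom_id, Category.comp_id,
      f.comm, ← Category.assoc, ← MonoidalCategory.whiskerLeft_comp, Iso.inv_hom_id, MonoidalCategory.whiskerLeft_id,
      Category.id_comp]

end dict

section main

theorem main (k : Type u) [Field k] [Finite k]
    (G : Over (Spec (CommRingCat.of k))) [GrpObj G] [IsFinite G.hom] [Etale G.hom] :
    Finite (NonAbH1.H1Sch G Scheme.fppfPrecoverage) ∧
      ∑ᶠ ξ : NonAbH1.H1Sch G Scheme.fppfPrecoverage,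
        ((Nat.card (NonAbH1.EquivIso (Quot.out ξ).act (Quot.out ξ).act) : ℚ))⁻¹ = 1 := by
  classical
  let kb := AlgebraicClosure k
  obtain ⟨π, hπ⟩ := K815.GalFin.exists_frob (k := k) (kb := kb)
  letI := mulAction (AlgSt.trivAction G) (SGA7.pt (K := k) kb)
  letI := cat G Scheme.fppfPrecoverage
  obtain ⟨D⟩ := exists_dict (k := k) (kb := kb) (G := G) hπ
  have hΓ : Finite (SGA7.pt (K := k) kb ⟶ G) := K815.BGone.finite_pts (k := k) (K := kb) G
  let C := TorsorSch G Scheme.fppfPrecoverage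
  have hfinC : Finite (StkCnt.IsoCl C) := by
    refine Finite.of_injective (β := (SGA7.pt (K := k) kb ⟶ G)) (fun c => (D.pr (Quotient.out c)).1) fun c c' h => ?_
    rw [← Quotient.out_eq c, ← Quotient.out_eq c']
    refine (D.mk_eq_iff _ _).mpr ⟨1, ?_, toUnit_unique _ _⟩
    rw [map_one, _root_.mul_one, _root_.one_mul]
    exact h
  have hcard : ∀ P : C, StkCnt.autCard C (StkCnt.IsoCl.mk P) = Nat.card (EquivIso P.act P.act) := by
    intro P
    rw [StkCnt.autCard_mk]
    refine Nat.card_congr (Equiv.ofBijective (fun f : Aut P => f.hom) ⟨fun f g hfg => Iso.ext hfg, fun f => ?_⟩)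
    have := D.iso P P f
    exact ⟨asIso f, rfl⟩
  let e : NonAbH1.H1Sch G Scheme.fppfPrecoverage ≃ StkCnt.IsoCl C :=
    Quot.congrRight fun P Q => ⟨fun ⟨f⟩ => ⟨@asIso C _ P Q f (D.iso P Q f)⟩, fun ⟨f⟩ => ⟨f.hom⟩⟩
  have hfin : Finite (NonAbH1.H1Sch G Scheme.fppfPrecoverage) := Finite.of_equiv _ e.symm
  refine ⟨hfin, ?_⟩
  have h1 : ∀ ξ : NonAbH1.H1Sch G Scheme.fppfPrecoverage,
      ((Nat.card (NonAbH1.EquivIso (Quot.out ξ).act (Quot.out ξ).act) : ℚ))⁻¹ =
        ((StkCnt.autCard C (e ξ) : ℕ) : ℚ)⁻¹ := by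
    intro ξ
    have h2 : e ξ = StkCnt.IsoCl.mk (Quot.out ξ) := by
      conv_lhs => rw [← Quot.out_eq ξ]
      rfl
    rw [h2, hcard]
  let _ : Fintype (StkCnt.IsoCl C) := Fintype.ofFinite _
  have hW : {p : (SGA7.pt (K := k) kb ⟶ G) × (SGA7.pt (K := k) kb ⟶ 𝟙_ (Over (Spec (CommRingCat.of k)))) //
      p.1 • (s (k := k) π ≫ p.2) = p.2} ≃ (SGA7.pt (K := k) kb ⟶ G) :=
    { toFun := fun p => p.1.1
      invFun := fun g => ⟨(g, toUnit _), toUnit_unique _ _⟩
      left_inv := fun p => Subtype.ext (Prod.ext rfl (toUnit_unique _ _))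
      right_inv := fun g => rfl }
  have hWf : Finite {p : (SGA7.pt (K := k) kb ⟶ G) × (SGA7.pt (K := k) kb ⟶ 𝟙_ (Over (Spec (CommRingCat.of k)))) //
      p.1 • (s (k := k) π ≫ p.2) = p.2} := Finite.of_equiv _ hW.symm
  rw [finsum_congr h1, finsum_comp_equiv e (f := fun c => ((StkCnt.autCard C c : ℕ) : ℚ)⁻¹),
    finsum_eq_sum_of_fintype, D.sum_all (fun g x => toUnit_unique _ _), Nat.card_congr hW]
  exact div_self (Nat.cast_ne_zero.2 Nat.card_pos.ne')

end main

end K992.H1Count
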